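import Mathlib
import Cfsg.Prelude.Def_GeometricClasses
import Cfsg.Prelude.Def_LieClassical
import Cfsg.Agent.Lib.Helper10.C6P.Defs

set_option autoImplicit false

/-!
# Project C6U (designer helper3): S6001 = `PSU_4(p)`, `p ≡ 3 (mod 4)`, the normalizer of `R = 4 ∘ 2^{1+4} ≤ GU_4(p)`.
Unitary PORT of project C6P (S6000, designer helper10): all C6P definitions (`M4`, `pD1 pX1 pD2 pX2`, `pauliM`, `CZ`, `UB`, `UA`, `Y5`,
`IsStd`, `Nrm`, `RCtx`, `HasStd`) are reused as they are (they are stated for any field).  New here: the matrix form of unitarity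
(`gram`, `IsU`), the group `SUg`, the left side `AllFixU`, the unitary standard form `HasStdU`, and the normal forms `D2`, `G3`/`D3`,
`G5`/`D5` of the elements of order 2, 3, 5 of `GU_4(p)`.
-/

namespace Cfsg.Agent.Lib.helper3.C6U

open Cfsg.Agent.Lib.Helper10.C6P
open scoped MatrixGroups

variable {F : Type*} [Field F]

/-- the Gram matrix of the columns of `B` for the form `Σ u_k v_k ^ p`: entry `(j, k)` is `h(b_j, b_k)` -/
def gram (p : ℕ) (B : M4 F) : M4 F := B.transpose * B.map (fun a => a ^ p)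

/-- `A` is unitary (preserves `Σ u_k v_k ^ p`, see Lead `Unitary.preserves_iff`) -/
def IsU (p : ℕ) (A : M4 F) : Prop := gram p A = 1

/-- `SU_4(p)` as a subgroup of `GL_4(F)`, as in the frozen statement -/
def SUg (F : Type*) [Field F] (p : ℕ) : Subgroup (GL (Fin 4) F) :=
  Cfsg.GU 4 F p ⊓ Cfsg.Geo.specialLinear (Fin 4) F

/-- the left side of the frozen statement S6001 -/
def AllFixU (p : ℕ) (R : Subgroup (GL (Fin 4) F)) (r : ℕ) : Prop :=
  ∀ x ∈ Cfsg.GU 4 F p ⊓ Cfsg.Geo.specialLinear (Fin 4) F,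
    (∃ z : F, ((x ^ r : GL (Fin 4) F) : Matrix (Fin 4) (Fin 4) F) = z • (1 : Matrix (Fin 4) (Fin 4) F)) →
    (∀ z : F, (x : Matrix (Fin 4) (Fin 4) F) ≠ z • (1 : Matrix (Fin 4) (Fin 4) F)) →
    ∃ g ∈ Cfsg.GU 4 F p ⊓ Cfsg.Geo.specialLinear (Fin 4) F, g⁻¹ * x * g ∈ Cfsg.Geo.subgroupNormalizer R

/-- `R` is conjugate to the standard Pauli group by a UNITARY matrix -/
def HasStdU (p : ℕ) (i : F) (R : Subgroup (GL (Fin 4) F)) : Prop :=
  ∃ P : GL (Fin 4) F, P ∈ Cfsg.GU 4 F p ∧ IsStd i (R.map (MulAut.conj P).toMonoidHom)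

/-- `M` normalizes `R` and is unitary -/
def NrmU (p : ℕ) (R : Subgroup (GL (Fin 4) F)) (M : M4 F) : Prop := Nrm R M ∧ IsU p M

/-- normal form of a unitary involution: `diag(1^j, (-1)^(4-j))` (Gram matrix `1`) -/
def D2 (F : Type*) [Field F] (j : ℕ) : M4 F :=
  Matrix.diagonal (fun k : Fin 4 => if (k : ℕ) < j then (1 : F) else -1)

/-- Gram matrix of the adapted basis of an element of order 3 (`ω ∈ F_p`): `(e, f, d₁, d₂)` for `a = 1` (hyperbolic pair in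
`V_ω ⊕ V_ω²`, orthonormal pair in `V_1`), `(e₁, f₁, e₂, f₂)` for `a = 2` -/
def G3 (F : Type*) [Field F] (a : ℕ) : M4 F :=
  if a = 2 then !![0, 1, 0, 0; 1, 0, 0, 0; 0, 0, 0, 1; 0, 0, 1, 0]
  else !![0, 1, 0, 0; 1, 0, 0, 0; 0, 0, 1, 0; 0, 0, 0, 1]

/-- normal form of an element of order 3 in the adapted basis -/
def D3 (ω : F) (a : ℕ) : M4 F :=
  if a = 2 then Matrix.diagonal ![ω, ω ^ 2, ω, ω ^ 2] else Matrix.diagonal ![ω, ω ^ 2, 1, 1]

/-- Gram matrix of the adapted basis `(e₁, e₂ = u e₁, f₁, f₂)` of an element of order 5: `h(e_j, f_k) = δ_jk`, `⟨e₁, e₂⟩`, `⟨f₁, f₂⟩` t.i. -/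
def G5 (F : Type*) [Field F] : M4 F := !![0, 0, 1, 0; 0, 0, 0, 1; 1, 0, 0, 0; 0, 1, 0, 0]

/-- normal form of an element of order 5 (`τ² + τ = 1`, `τ ^ p = -1 - τ`): companion matrix of `X² - τ X + 1` on `⟨e₁, e₂⟩` and the
inverse conjugate transpose on `⟨f₁, f₂⟩` -/
def D5 (τ : F) : M4 F := !![0, -1, 0, 0; 1, τ, 0, 0; 0, 0, -1 - τ, -1; 0, 0, 1, 0]

end Cfsg.Agent.Lib.helper3.C6U
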